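import Cfsg.Agent.H242.Reg.FourCore
import Cfsg.Agent.S3387
import Cfsg.Agent.S3543

/-!
# S3691, alternating socle, Case II, `k ≥ 4` (helper242, task 5622)

`stFour : StFour`.
-/

set_option autoImplicit false

namespace Cfsg.Agent.H242.Reg

open Equiv MulAction
open Cfsg.Agent.H392.MultTrans
open Cfsg.Agent.H454.Reg.Alt

universe u

/-- 4-transitive groups -/
theorem not_four {Ω : Type u} [Fintype Ω] [DecidableEq Ω] {G H B : Subgroup (Perm Ω)} (h : PEx G H B)
    (h4 : IsMultiplyPretransitive H Ω 4) : False := by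
  have hm := h.deg
  have hr : (MulAction.toPermHom H Ω).range = H := by
    ext g
    constructor
    · rintro ⟨k, rfl⟩
      exact k.2
    · intro hg
      exact ⟨⟨g, hg⟩, rfl⟩
  rcases Cfsg.Agent.S3387.result (by omega) h4 with h1 | h1 | ⟨h1, -⟩ | ⟨h1, -⟩ | ⟨h1, -⟩ | ⟨h1, -⟩
  · rw [hr] at h1
    exact h.not_alt (by rw [h1]; exact le_top)
  · rw [hr] at h1
    exact h.not_alt (by rw [h1])
  all_goals omega

/-- **(T3)** -/
theorem stFour : StFour.{u} := by
  intro Ω _ _ G H B Γ k hk h
  have hm := h.deg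
  have hlt := h.lt
  have hex := h.toPEx
  rcases Nat.lt_or_ge 4 k with hk5 | hk4
  · have h1 : IsMultiplyPretransitive H Ω k := Cfsg.Agent.S0748.result H (by omega) (by omega) h.hom
    exact not_four hex (isMultiplyPretransitive_of_le (n := k) hk (by rw [Nat.card_eq_fintype_card]; omega))
  have hk' : k = 4 := by omega
  subst hk'
  have h3 : IsMultiplyPretransitive H Ω 3 := Cfsg.Agent.S0746.result H (by norm_num) (by omega) h.hom
  have hdvd := choose_dvd h.hom (by omega)
  rcases Cfsg.Agent.S3543.result (G := H) (Ω := Ω) (by rw [Nat.card_eq_fintype_card]; omega) h3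
    (half h.hom) with h4 | h4 | ⟨p, hp, hp2, hΩ, N, hN, hi, ⟨e⟩⟩
  · exact not_four hex h4
  · -- sharply 3-transitive
    obtain ⟨s⟩ : Nonempty (Fin 3 ↪ Ω) := Function.Embedding.nonempty_of_card_le (by
      rw [Fintype.card_fin]; omega)
    have h5 := card_eq_descFactorial h3 s
    rw [← iInf_stab, h4 s, Subgroup.card_bot, mul_one, Nat.card_eq_fintype_card (α := Ω)] at h5
    have h6 := Nat.le_of_dvd Nat.card_pos hdvd
    rw [h5] at h6
    have h7 := Nat.descFactorial_eq_factorial_mul_choose (Fintype.card Ω) 4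
    rw [Nat.descFactorial_succ] at h7
    have h8 : Nat.factorial 4 = 24 := rfl
    rw [h8] at h7
    have h9 : 0 < (Fintype.card Ω).descFactorial 3 := Nat.descFactorial_pos.2 (by omega)
    have h10 : (Fintype.card Ω - 3) * (Fintype.card Ω).descFactorial 3 ≤ 24 * (Fintype.card Ω).descFactorial 3 := by
      rw [h7]
      exact Nat.mul_le_mul_left _ h6
    have := Nat.le_of_mul_le_mul_right h10 h9
    omega
  · -- `PΓL₂(2^p)`
    have := Fact.mk hp
    let _ : Fintype (GaloisField 2 p) := Fintype.ofFinite _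
    rw [Nat.card_eq_fintype_card] at hΩ
    have hF : Fintype.card (GaloisField 2 p) = 2 ^ p := by
      rw [← Nat.card_eq_fintype_card]
      exact GaloisField.card 2 p hp.ne_zero
    have hc : Nat.card ↥H = p * (2 ^ p * (4 ^ p - 1)) := by
      rw [← N.index_mul_card, hi, Nat.card_congr e.toEquiv, card_psl p hp.one_le hF]
    rw [hΩ, hc] at hdvd
    have hp5 : p = 5 := arith hp (by omega) hdvd
    subst hp5
    exact five hex (by rw [hΩ]; norm_num) (by rw [hF]; norm_num) hN hi e

end Cfsg.Agent.H242.Reg
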