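import Cfsg.Agent.H454.Reg.Alt.Defs
import Cfsg.Agent.H392.MultTrans
import Cfsg.Agent.S0243
import Cfsg.Agent.S0746
import Cfsg.Agent.S0748

/-!
# S3691, alternating socle, Case II, `k ≥ 4` (helper242, task 5622): the parts without the classification

* `half` : a 3-transitive, 4-homogeneous group satisfies the hypothesis of S3543;
* `choose_dvd` : `C(m,k)` divides the order of a `k`-homogeneous group;
* `arith` : `C(2 ^ p + 1, 4) ∣ p · 2 ^ p (4 ^ p - 1)`, `p` odd, `2 ^ p + 1 ≥ 30` ⇒ `p = 5`;
* `five` : the case `p = 5`.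
-/

set_option autoImplicit false
set_option linter.unusedSectionVars false

namespace Cfsg.Agent.H242.Reg

open Equiv MulAction
open Cfsg.Agent.H392.MultTrans
open Cfsg.Agent.H454.Reg.Alt
open scoped Pointwise

universe u

variable {Ω : Type u} [Fintype Ω] [DecidableEq Ω]

/-- the pointwise stabiliser of a finset -/
def pst (H : Subgroup (Perm Ω)) (s : Finset Ω) : Subgroup H where
  carrier := {h | ∀ x ∈ s, h • x = x}
  one_mem' := fun x _ => one_smul _ x
  mul_mem' := fun {a b} ha hb x hx => by rw [mul_smul, hb x hx, ha x hx]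
  inv_mem' := fun {a} ha x hx => by
    rw [inv_smul_eq_iff]
    exact (ha x hx).symm

theorem mem_pst {H : Subgroup (Perm Ω)} {s : Finset Ω} {h : H} : h ∈ pst H s ↔ ∀ x ∈ s, h • x = x := Iff.rfl

theorem card_pst_smul (H : Subgroup (Perm Ω)) (s : Finset Ω) (g : H) :
    Nat.card (pst H (g • s)) = Nat.card (pst H s) := by
  have h1 : (pst H s).map (MulAut.conj g).toMonoidHom = pst H (g • s) := by
    ext h
    constructor
    · rintro ⟨k, hk, rfl⟩
      intro x hx
      obtain ⟨y, hy, rfl⟩ := Finset.mem_smul_finset.1 hx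
      change (g * k * g⁻¹) • g • y = g • y
      rw [mul_smul, mul_smul, inv_smul_smul, hk y hy]
    · intro h2
      refine ⟨g⁻¹ * h * g, ?_, ?_⟩
      · intro y hy
        rw [mul_smul, mul_smul, h2 (g • y) (Finset.smul_mem_smul_finset hy), inv_smul_smul]
      · change g * (g⁻¹ * h * g) * g⁻¹ = h
        group
  rw [← h1]
  exact (Nat.card_congr ((pst H s).equivMapOfInjective _ (MulAut.conj g).injective).toEquiv).symm

/-- the pointwise stabilisers of the 4-sets have the same order -/
theorem card_pst {H : Subgroup (Perm Ω)} {k : ℕ} (hom : IsPretransitive H (Set.powersetCard Ω k)) {s t : Finset Ω}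
    (hs : s.card = k) (ht : t.card = k) : Nat.card (pst H s) = Nat.card (pst H t) := by
  obtain ⟨g, hg⟩ := hom.exists_smul_eq (⟨t, ht⟩ : Set.powersetCard Ω k) ⟨s, hs⟩
  have h1 : g • t = s := by
    exact congrArg (fun z : Set.powersetCard Ω k => (z : Finset Ω)) hg
  rw [← h1, card_pst_smul]

/-- **the hypothesis of S3543** -/
theorem half {H : Subgroup (Perm Ω)}
    (hom : IsPretransitive H (Set.powersetCard Ω 4)) (s : Fin 3 ↪ Ω) (b c : Ω) (hb : b ∉ Set.range s)
    (hc : c ∉ Set.range s) :
    Nat.card (orbit (↥(⨅ i, stabilizer H (s i))) b) = Nat.card (orbit (↥(⨅ i, stabilizer H (s i))) c) := by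
  classical
  have key : ∀ b : Ω, b ∉ Set.range s → ∃ t : Finset Ω, t.card = 4 ∧
      Nat.card (orbit (↥(⨅ i, stabilizer H (s i))) b) * Nat.card (pst H t) =
        Nat.card ↥(⨅ i, stabilizer H (s i)) := by
    intro b hb
    refine ⟨insert b (Finset.univ.map s), ?_, ?_⟩
    · rw [Finset.card_insert_of_notMem, Finset.card_map, Finset.card_univ, Fintype.card_fin]
      intro h
      obtain ⟨i, -, hi⟩ := Finset.mem_map.1 h
      exact hb ⟨i, hi⟩
    · set K := (⨅ i, stabilizer H (s i)) with hK
      have h1 := Nat.card_congr (MulAction.orbitProdStabilizerEquivGroup ↥K b)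
      rw [Nat.card_prod] at h1
      rw [← h1]
      congr 1
      -- the stabiliser of `b` in `K`
      have hmem : ∀ h : H, h ∈ K ↔ ∀ i, h • s i = s i := by
        intro h
        rw [hK, Subgroup.mem_iInf]
        exact Iff.rfl
      refine Nat.card_congr
        { toFun := fun h => ⟨⟨(h : H), ?_⟩, ?_⟩
          invFun := fun h => ⟨((h : ↥K) : H), ?_⟩
          left_inv := fun h => rfl
          right_inv := fun h => rfl }
      · rw [hmem]
        intro i
        exact h.2 (s i) (Finset.mem_insert_of_mem (Finset.mem_map_of_mem _ (Finset.mem_univ i)))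
      · exact h.2 b (Finset.mem_insert_self _ _)
      · intro x hx
        rcases Finset.mem_insert.1 hx with rfl | hx
        · exact h.2
        · obtain ⟨i, -, rfl⟩ := Finset.mem_map.1 hx
          exact (hmem _).1 (h : ↥K).2 i
  obtain ⟨t, ht, h1⟩ := key b hb
  obtain ⟨t', ht', h2⟩ := key c hc
  rw [card_pst hom ht' ht] at h2
  exact Nat.eq_of_mul_eq_mul_right Nat.card_pos (h1.trans h2.symm)

/-- `C(m, k)` divides the order of a `k`-homogeneous group -/
theorem choose_dvd {H : Subgroup (Perm Ω)} {k : ℕ} (hom : IsPretransitive H (Set.powersetCard Ω k))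
    (hk : k ≤ Fintype.card Ω) : (Fintype.card Ω).choose k ∣ Nat.card H := by
  classical
  obtain ⟨t, -, ht⟩ := Finset.exists_subset_card_eq (s := (Finset.univ : Finset Ω)) (n := k)
    (by rw [Finset.card_univ]; exact hk)
  have h1 := MulAction.index_stabilizer_of_transitive H (⟨t, ht⟩ : Set.powersetCard Ω k)
  have h2 : Nat.card (Set.powersetCard Ω k) = (Fintype.card Ω).choose k := by
    rw [Set.powersetCard.card, Nat.card_eq_fintype_card]
  rw [h2] at h1
  rw [← h1]
  exact Subgroup.index_dvd_card _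

/-- the arithmetic -/
theorem arith {p : ℕ} (hp : p.Prime) (h30 : 30 ≤ 2 ^ p + 1)
    (h : (2 ^ p + 1).choose 4 ∣ p * (2 ^ p * (4 ^ p - 1))) : p = 5 := by
  have hp5 : 5 ≤ p := by
    by_contra hcon
    have : 2 ^ p ≤ 2 ^ 4 := Nat.pow_le_pow_right (by norm_num) (by omega)
    omega
  obtain ⟨r, rfl⟩ : ∃ r, p = r + 5 := ⟨p - 5, by omega⟩
  set P := r + 5 with hP
  set a := 2 ^ r with ha
  have ha1 : 1 ≤ a := Nat.one_le_two_pow
  have hq : 2 ^ P = 32 * a := by rw [hP, pow_add, ha]; ring
  have h4 : 4 ^ P = (32 * a) * (32 * a) := by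
    rw [← hq, show 4 = 2 * 2 by norm_num, mul_pow]
  rw [hq, h4] at h
  have h1 : (32 * a + 1).choose 4 * 24 = (32 * a + 1) * (32 * a) * (32 * a - 1) * (32 * a - 2) := by
    have h2 := Nat.descFactorial_eq_factorial_mul_choose (32 * a + 1) 4
    simp only [Nat.descFactorial_succ, Nat.descFactorial_zero, mul_one] at h2
    have h5 : Nat.factorial 4 = 24 := rfl
    rw [h5] at h2
    rw [mul_comm, ← h2]
    have e1 : 32 * a + 1 - 3 = 32 * a - 2 := by omega
    have e2 : 32 * a + 1 - 2 = 32 * a - 1 := by omega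
    have e3 : 32 * a + 1 - 1 = 32 * a := by omega
    rw [e1, e2, e3, Nat.sub_zero]
    ring
  have h2 : (32 * a + 1) * (32 * a) * (32 * a - 1) * (32 * a - 2) ∣
      24 * P * ((32 * a + 1) * (32 * a) * (32 * a - 1)) := by
    rw [← h1]
    have h3 := Nat.mul_dvd_mul_right h 24
    have e1 : P * (32 * a * (32 * a * (32 * a) - 1)) * 24 =
        24 * P * ((32 * a + 1) * (32 * a) * (32 * a - 1)) := by
      have e2 : 32 * a * (32 * a) - 1 = (32 * a + 1) * (32 * a - 1) := by
        obtain ⟨b, hb⟩ : ∃ b, 32 * a = b + 1 := ⟨32 * a - 1, by omega⟩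
        rw [hb, Nat.add_sub_cancel]
        have : (b + 1) * (b + 1) = (b + 1 + 1) * b + 1 := by ring
        rw [this, Nat.add_sub_cancel]
      rw [e2]
      ring
    rwa [e1] at h3
  have hpos : 0 < (32 * a + 1) * (32 * a) * (32 * a - 1) := by
    apply Nat.mul_pos (Nat.mul_pos (by omega) (by omega))
    omega
  have h3 : 32 * a - 2 ∣ 24 * P := by
    rw [mul_comm (24 * P)] at h2
    exact Nat.dvd_of_mul_dvd_mul_left hpos h2
  -- size
  have hle := Nat.le_of_dvd (by omega) h3
  have hr : r ≤ 3 := by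
    by_contra hcon
    have key : ∀ j : ℕ, 24 * (j + 4 + 5) + 2 < 32 * 2 ^ (j + 4) := by
      intro j
      induction j with
      | zero => norm_num
      | succ j ih =>
        rw [show j + 1 + 4 = j + 4 + 1 by ring, pow_succ]
        omega
    have := key (r - 4)
    rw [show r - 4 + 4 = r by omega] at this
    omega
  have h5 : r = 0 := by
    interval_cases r
    · rfl
    · exfalso
      rw [hP] at hp
      revert hp; decide
    · exfalso
      rw [ha, hP] at h3
      revert h3; decide
    · exfalso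
      rw [hP] at hp
      revert hp; decide
  omega

/-- the order of `PSL₂(2^p)` -/
theorem card_psl (p : ℕ) (hp : 1 ≤ p) {F : Type*} [Field F] [Fintype F] (hF : Fintype.card F = 2 ^ p) :
    Nat.card (Matrix.ProjectiveSpecialLinearGroup (Fin 2) F) = 2 ^ p * (4 ^ p - 1) := by
  have h := Cfsg.Agent.S0243.result hF 2 le_rfl
  have hq : 2 ≤ 2 ^ p := Nat.le_self_pow (by omega) 2
  have hodd : Nat.gcd 2 (2 ^ p - 1) = 1 := by
    have h1 : Odd (2 ^ p - 1) := Nat.Even.sub_odd (by omega) ((Nat.even_pow.2 ⟨even_two, by omega⟩)) odd_one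
    exact (Nat.coprime_two_left.2 h1)
  rw [hodd, one_mul, Fin.prod_univ_two] at h
  simp only [Fin.val_zero, Fin.val_one, pow_zero, pow_one] at h
  have h4 : 4 ^ p = 2 ^ p * 2 ^ p := by
    rw [← mul_pow]
    norm_num
  rw [h4]
  generalize 2 ^ p = q at h hq
  obtain ⟨b, rfl⟩ : ∃ b, q = b + 1 := ⟨q - 1, by omega⟩
  rw [Nat.add_sub_cancel] at h
  apply Nat.eq_of_mul_eq_mul_left (show 0 < b by omega)
  rw [h]
  have e1 : (b + 1) ^ 2 - 1 = b * (b + 2) := by
    have : (b + 1) ^ 2 = b * (b + 2) + 1 := by ring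
    rw [this, Nat.add_sub_cancel]
  have e2 : (b + 1) ^ 2 - (b + 1) = b * (b + 1) := by
    have : (b + 1) ^ 2 = b * (b + 1) + (b + 1) := by ring
    rw [this, Nat.add_sub_cancel]
  have e3 : (b + 1) * (b + 1) - 1 = b * (b + 2) := by
    have : (b + 1) * (b + 1) = b * (b + 2) + 1 := by ring
    rw [this, Nat.add_sub_cancel]
  rw [e1, e2, e3]
  ring

/-- a subgroup `H` of `Sym(33)` with a normal subgroup `PSL₂(32)` of index 5 is not a factor -/
theorem five {G H B : Subgroup (Perm Ω)} (h : PEx G H B) (hm : Fintype.card Ω = 33) {F : Type} [Field F] [Fintype F]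
    (hF : Fintype.card F = 32) {N : Subgroup H} (hN : N.Normal) (hi : N.index = 5)
    (e : ↥N ≃* Matrix.ProjectiveSpecialLinearGroup (Fin 2) F) : False := by
  classical
  have hF' : Fintype.card F = 2 ^ 5 := by rw [hF]; norm_num
  have hs : IsSimpleGroup (Matrix.ProjectiveSpecialLinearGroup (Fin 2) F) :=
    Matrix.ProjectiveSpecialLinearGroup.rank_two_simple (by rw [Nat.card_eq_fintype_card, hF]; norm_num)
  have hsN : IsSimpleGroup ↥N := e.isSimpleGroup
  have hcN : Nat.card ↥N = 32736 := by
    rw [Nat.card_congr e.toEquiv, card_psl 5 (by norm_num) hF']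
    norm_num
  have hcH : Nat.card ↥H = 163680 := by
    rw [← N.index_mul_card, hi, hcN]
  -- `H ≤ A_33`
  have hNk : N ≤ (Perm.sign.comp H.subtype).ker := by
    have h1 : ((Perm.sign.comp H.subtype).ker).subgroupOf N = ⊤ := by
      rcases hsN.eq_bot_or_eq_top_of_normal (((Perm.sign.comp H.subtype).ker).subgroupOf N) inferInstance with h1 | h1
      · exfalso
        have h2 : Function.Injective ((Perm.sign.comp H.subtype).comp N.subtype) := by
          rw [← MonoidHom.ker_eq_bot_iff]
          exact h1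
        have h3 := Nat.card_le_card_of_injective _ h2
        rw [hcN, Nat.card_eq_fintype_card, Fintype.card_units_int] at h3
        omega
      · exact h1
    rwa [Subgroup.subgroupOf_eq_top] at h1
  have hHA : H ≤ alternatingGroup Ω := by
    intro g hg
    rw [Perm.mem_alternatingGroup]
    have h1 : (⟨g, hg⟩ : ↥H) ^ 5 ∈ N := by
      rw [← hi]
      exact N.pow_index_mem _
    have h2 : Perm.sign (g ^ 5) = 1 := hNk h1
    rw [map_pow] at h2
    rcases Int.units_eq_one_or (Perm.sign g) with h3 | h3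
    · exact h3
    · rw [h3] at h2
      exact absurd h2 (by decide)
  -- `G = A_33`
  have hG : G = alternatingGroup Ω := by
    rcases h.max _ hHA h.alt with h1 | h1
    · exact absurd h1.le h.not_alt
    · exact h1.symm
  have hne : Nontrivial Ω := Fintype.one_lt_card_iff_nontrivial.1 (by omega)
  have hcG : 2 * Nat.card ↥G = Nat.factorial 33 := by
    rw [hG, two_mul_nat_card_alternatingGroup, Nat.card_perm, Nat.card_eq_fintype_card, hm]
  have h1 := h.card
  have h2 := h.large
  rw [hcH] at h1
  have h3 : Nat.factorial 33 = 982080 * Nat.factorial 29 := by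
    simp only [Nat.factorial_succ]
    ring
  omega

end Cfsg.Agent.H242.Reg
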